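import Mathlib

/-!
Packed codes for 45 × 45 matrices over the integers modulo 7: one natural number per row, with
lanes of 16 bits.
-/

set_option autoImplicit false

namespace Cfsg.Agent.Lib.ON45

/-- A lane of a packed row. -/
def lane (r j : ℕ) : ℕ := r / 65536 ^ j % 65536

theorem lane_zero (r : ℕ) : lane r 0 = r % 65536 := by simp [lane]

theorem lane_succ (r j : ℕ) : lane r (j + 1) = lane (r / 65536) j := by
  rw [lane, lane, pow_succ', Nat.div_div_eq_div_mul]

/-- Reduction of the first `n` lanes modulo 7, dropping the others. -/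
noncomputable def red (n : ℕ) : ℕ → ℕ :=
  Nat.rec (motive := fun _ => ℕ → ℕ) (fun _ => 0)
    (fun _ ih r => Nat.add (Nat.mod (Nat.mod r 65536) 7) (Nat.mul 65536 (ih (Nat.div r 65536)))) n

theorem red_succ (n r : ℕ) :
    red (n + 1) r = r % 65536 % 7 + 65536 * red n (r / 65536) := rfl

theorem lane_red : ∀ {n j : ℕ} (r : ℕ), j < n → lane (red n r) j = lane r j % 7
  | 0, _, _, h => by omega
  | n + 1, 0, r, _ => by rw [red_succ, lane_zero, lane_zero]; omega
  | n + 1, j + 1, r, h => by
    rw [red_succ, lane_succ, lane_succ, ← lane_red (r / 65536) (Nat.succ_lt_succ_iff.1 h)]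
    congr 1
    omega

theorem red_congr : ∀ {n r s : ℕ}, (∀ j < n, lane r j % 7 = lane s j % 7) → red n r = red n s
  | 0, _, _, _ => rfl
  | n + 1, r, s, h => by
    have h0 := h 0 (by omega)
    rw [lane_zero, lane_zero] at h0
    rw [red_succ, red_succ, h0, red_congr (n := n) (r := r / 65536) (s := s / 65536)]
    intro j hj
    have h1 := h (j + 1) (by omega)
    rwa [lane_succ, lane_succ] at h1

theorem red_red (n r : ℕ) : red n (red n r) = red n r :=
  red_congr fun j hj => by rw [lane_red r hj, Nat.mod_mod]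

/-- Combination of the rows of a list by the lanes of a number. -/
noncomputable def dot (B : List ℕ) : ℕ → ℕ :=
  List.rec (motive := fun _ => ℕ → ℕ) (fun _ => 0)
    (fun b _ ih a => Nat.add (Nat.mul (Nat.mod a 65536) b) (ih (Nat.div a 65536))) B

theorem dot_eq : ∀ (B : List ℕ) (a : ℕ),
    dot B a = ∑ q ∈ Finset.range B.length, lane a q * B.getD q 0
  | [], _ => by simp [dot]
  | b :: B, a => by
    rw [show dot (b :: B) a = a % 65536 * b + dot B (a / 65536) from rfl, dot_eq B,
      List.length_cons, Finset.sum_range_succ', lane_zero, add_comm]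
    simp only [List.getD_cons_succ, List.getD_cons_zero, lane_succ]

theorem lane_sum (n : ℕ) (hn : n ≤ 45) (c : ℕ → ℕ) (hc : ∀ q < n, c q ≤ 6) :
    ∀ (j : ℕ) (b : ℕ → ℕ), (∀ q < n, ∀ i ≤ j, lane (b q) i ≤ 6) →
      lane (∑ q ∈ Finset.range n, c q * b q) j = ∑ q ∈ Finset.range n, c q * lane (b q) j := by
  intro j
  induction j with
  | zero =>
    intro b hb
    simp only [lane_zero]
    rw [Finset.sum_nat_mod]
    have h1 : ∀ q ∈ Finset.range n, c q * b q % 65536 = c q * (b q % 65536) := by
      intro q hq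
      have hq' := Finset.mem_range.1 hq
      have h2 := hb q hq' 0 le_rfl
      rw [lane_zero] at h2
      rw [Nat.mul_mod, Nat.mod_eq_of_lt (a := c q) (by have := hc q hq'; omega),
        Nat.mod_eq_of_lt (a := c q * (b q % 65536))]
      exact lt_of_le_of_lt (Nat.mul_le_mul (hc q hq') h2) (by norm_num)
    rw [Finset.sum_congr rfl h1, Nat.mod_eq_of_lt]
    refine lt_of_le_of_lt (Finset.sum_le_card_nsmul _ _ 36 fun q hq => ?_) ?_
    · have h2 := hb q (Finset.mem_range.1 hq) 0 le_rfl
      rw [lane_zero] at h2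
      exact (Nat.mul_le_mul (hc q (Finset.mem_range.1 hq)) h2).trans (by norm_num)
    · simp only [Finset.card_range, smul_eq_mul]; omega
  | succ j ih =>
    intro b hb
    simp only [lane_succ]
    rw [← ih (fun q => b q / 65536) fun q hq i hi => by
      rw [← lane_succ]; exact hb q hq (i + 1) (by omega)]
    congr 1
    have hsplit : (∑ q ∈ Finset.range n, c q * b q) =
        (∑ q ∈ Finset.range n, c q * (b q % 65536)) +
          65536 * ∑ q ∈ Finset.range n, c q * (b q / 65536) := by
      rw [Finset.mul_sum, ← Finset.sum_add_distrib]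
      refine Finset.sum_congr rfl fun q _ => ?_
      conv_lhs => rw [← Nat.mod_add_div (b q) 65536]
      ring
    have hlt : (∑ q ∈ Finset.range n, c q * (b q % 65536)) < 65536 := by
      refine lt_of_le_of_lt (Finset.sum_le_card_nsmul _ _ 36 fun q hq => ?_) ?_
      · have h2 := hb q (Finset.mem_range.1 hq) 0 (Nat.zero_le _)
        rw [lane_zero] at h2
        exact (Nat.mul_le_mul (hc q (Finset.mem_range.1 hq)) h2).trans (by norm_num)
      · simp only [Finset.card_range, smul_eq_mul]; omega
    rw [hsplit]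
    omega

/-- A matrix with reduced rows. -/
noncomputable def okM (A : List ℕ) : Bool :=
  Nat.beq A.length 45 && A.all fun r => Nat.beq (red 45 r) r

theorem okM_iff {A : List ℕ} : okM A = true ↔ A.length = 45 ∧ ∀ r ∈ A, red 45 r = r := by
  simp [okM]

theorem lane_le {A : List ℕ} (hA : okM A = true) (i : ℕ) {j : ℕ} (hj : j < 45) :
    lane (A.getD i 0) j ≤ 6 := by
  rcases Nat.lt_or_ge i A.length with h | h
  · rw [List.getD_eq_getElem _ _ h, ← (okM_iff.1 hA).2 _ (List.getElem_mem h), lane_red _ hj]
    omega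
  · rw [List.getD_eq_default _ _ h]; simp [lane]

/-- The product of coded matrices. -/
noncomputable def mul (A B : List ℕ) : List ℕ := A.map fun a => red 45 (dot B a)

theorem okM_mul {A B : List ℕ} (hA : okM A = true) : okM (mul A B) = true := by
  rw [okM_iff]
  refine ⟨by rw [mul, List.length_map, (okM_iff.1 hA).1], fun r hr => ?_⟩
  obtain ⟨a, -, rfl⟩ := List.mem_map.1 hr
  exact red_red _ _

/-- The matrix of a code. -/
def val (A : List ℕ) : Matrix (Fin 45) (Fin 45) (ZMod 7) :=
  Matrix.of fun i j => (lane (A.getD i.1 0) j.1 : ZMod 7)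

theorem val_mul {A B : List ℕ} (hA : okM A = true) (hB : okM B = true) :
    val (mul A B) = val A * val B := by
  ext i j
  have hi : i.1 < A.length := by rw [(okM_iff.1 hA).1]; exact i.2
  simp only [val, Matrix.mul_apply, Matrix.of_apply]
  rw [mul, List.getD_eq_getElem _ _ (by rwa [List.length_map]), List.getElem_map,
    lane_red _ j.2, dot_eq, (okM_iff.1 hB).1,
    lane_sum 45 le_rfl _ (fun q hq => ?_) j.1 _ (fun q _ k hk => lane_le hB q (by omega)),
    ZMod.natCast_mod, Nat.cast_sum, ← Fin.sum_univ_eq_sum_range]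
  · refine Finset.sum_congr rfl fun q _ => ?_
    rw [Nat.cast_mul, List.getD_eq_getElem _ _ hi]
  · have := lane_le hA i.1 hq
    rwa [List.getD_eq_getElem _ _ hi] at this

/-- The entries of a code are those of a scalar matrix. -/
noncomputable def isScalar (A : List ℕ) (c : ℕ) : Bool :=
  (List.range 45).all fun i => (List.range 45).all fun j =>
    Nat.beq (Nat.mod (Nat.mod (Nat.div (A.getD i 0) (Nat.pow 65536 j)) 65536) 7)
      (cond (Nat.beq i j) (Nat.mod c 7) 0)

theorem val_scalar {A : List ℕ} {c : ℕ} (h : isScalar A c = true) :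
    val A = (c : ZMod 7) • (1 : Matrix (Fin 45) (Fin 45) (ZMod 7)) := by
  ext i j
  simp only [isScalar, List.all_eq_true, List.mem_range, Nat.beq_eq] at h
  have h1 : lane (A.getD i.1 0) j.1 % 7 = cond (Nat.beq i.1 j.1) (c % 7) 0 := h i.1 i.2 j.1 j.2
  simp only [val, Matrix.of_apply, Matrix.smul_apply, Matrix.one_apply, smul_eq_mul]
  rw [← ZMod.natCast_mod, h1]
  by_cases hij : i = j
  · subst hij; simp
  · have : Nat.beq i.1 j.1 = false := by
      rw [Bool.eq_false_iff, Ne, Nat.beq_eq]
      exact fun h => hij (Fin.ext h)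
    rw [this, if_neg hij]; simp

end Cfsg.Agent.Lib.ON45
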