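import Cfsg.Agent.Lib.ON45.Code
import Cfsg.Agent.Lib.ON45.Data
import Cfsg.Agent.Lib.CosetEnum.ON122760.Enum

/-!
The presented O'Nan group as matrices modulo scalars: a homomorphism into the invertible
45 × 45 matrices over the integers modulo 7, modulo the scalars of order three.
-/

set_option autoImplicit false
set_option maxRecDepth 20000

namespace Cfsg.Agent.Lib.ON45

open Cfsg.Agent.Lib.CosetEnum Cfsg.Spor

/-- The invertible matrices. -/
abbrev GL45 : Type := (Matrix (Fin 45) (Fin 45) (ZMod 7))ˣ

/-- The scalar two. -/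
def zeta : GL45 where
  val := (2 : ZMod 7) • 1
  inv := (4 : ZMod 7) • 1
  val_inv := by
    rw [smul_mul_smul_comm, one_mul, show (2 : ZMod 7) * 4 = 1 by decide, one_smul]
  inv_val := by
    rw [smul_mul_smul_comm, one_mul, show (4 : ZMod 7) * 2 = 1 by decide, one_smul]

theorem val_zeta_pow (k : ℕ) :
    ((zeta ^ k : GL45) : Matrix (Fin 45) (Fin 45) (ZMod 7)) = (2 : ZMod 7) ^ k • 1 := by
  rw [Units.val_pow_eq_pow_val, show (zeta : Matrix (Fin 45) (Fin 45) (ZMod 7)) = (2 : ZMod 7) • 1 from rfl,
    smul_pow, one_pow]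

theorem orderOf_zeta : orderOf zeta = 3 := by
  haveI : Fact (Nat.Prime 3) := ⟨by norm_num⟩
  refine orderOf_eq_prime (Units.ext ?_) fun h => ?_
  · rw [val_zeta_pow, show (2 : ZMod 7) ^ 3 = 1 by decide, one_smul]; rfl
  · have h0 : ((2 : ZMod 7) • 1 : Matrix (Fin 45) (Fin 45) (ZMod 7)) = 1 := congrArg Units.val h
    have h' : ((2 : ZMod 7) • 1 : Matrix (Fin 45) (Fin 45) (ZMod 7)) 0 0 =
        (1 : Matrix (Fin 45) (Fin 45) (ZMod 7)) 0 0 := by rw [h0]
    rw [Matrix.smul_apply, Matrix.one_apply_eq, smul_eq_mul, mul_one] at h'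
    exact absurd h' (by decide)

/-- The scalars of order dividing three. -/
abbrev Z : Subgroup GL45 := Subgroup.zpowers zeta

theorem card_Z : Nat.card Z = 3 := by rw [Nat.card_zpowers, orderOf_zeta]

theorem zeta_comm (x : GL45) : x * zeta = zeta * x := by
  apply Units.ext
  show (x : Matrix (Fin 45) (Fin 45) (ZMod 7)) * ((2 : ZMod 7) • 1) = ((2 : ZMod 7) • 1) * x.1
  simp

theorem Z_le_center : Z ≤ Subgroup.center GL45 := by
  rw [Subgroup.zpowers_le, Subgroup.mem_center_iff]
  exact zeta_comm

instance : Z.Normal where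
  conj_mem n hn g := by
    rw [Subgroup.mem_center_iff.1 (Z_le_center hn) g, mul_inv_cancel_right]
    exact hn

/-- The rows of a letter. -/
noncomputable def rows (g : ℕ) : List ℕ := letterRows.getD g oneRows

theorem rows_ok : (List.range 9).all (fun g => okM (rows g)) = true := by decide +kernel

theorem ok_one : okM oneRows = true := by decide +kernel

theorem val_one : val oneRows = 1 := by
  rw [val_scalar (c := 1) (by decide +kernel), Nat.cast_one, one_smul]

/-- The inverse of a letter. -/
noncomputable def invLetter (g : ℕ) : ℕ := invL ON122760.letters.IV g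

theorem pairs_ok : (List.range 8).all (fun g =>
    Nat.blt (invLetter g) 8 && isScalar (mul (rows g) (rows (invLetter g))) 1 &&
      isScalar (mul (rows (invLetter g)) (rows g)) 1) = true := by
  decide +kernel

theorem okM_rows {g : ℕ} (hg : g < 9) : okM (rows g) = true :=
  List.all_eq_true.1 rows_ok g (List.mem_range.2 hg)

theorem pair_spec {g : ℕ} (hg : g < 8) : invLetter g < 8 ∧
    val (rows g) * val (rows (invLetter g)) = 1 ∧ val (rows (invLetter g)) * val (rows g) = 1 := by
  have h := List.all_eq_true.1 pairs_ok g (List.mem_range.2 hg)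
  simp only [Bool.and_eq_true, Nat.blt_eq] at h
  obtain ⟨⟨h0, h1⟩, h2⟩ := h
  refine ⟨h0, ?_, ?_⟩
  · rw [← val_mul (okM_rows (by omega)) (okM_rows (by omega)), val_scalar h1, Nat.cast_one, one_smul]
  · rw [← val_mul (okM_rows (by omega)) (okM_rows (by omega)), val_scalar h2, Nat.cast_one, one_smul]

/-- The matrix of a letter. -/
noncomputable def unit (g : ℕ) : GL45 :=
  if h : g < 8 then ⟨val (rows g), val (rows (invLetter g)), (pair_spec h).2.1, (pair_spec h).2.2⟩
  else 1

theorem val_unit {g : ℕ} (hg : g < 8) : (unit g : Matrix (Fin 45) (Fin 45) (ZMod 7)) = val (rows g) := by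
  rw [unit, dif_pos hg]

/-- The rows of a word. -/
noncomputable def wordRows (l : List ℕ) : List ℕ :=
  List.rec (motive := fun _ => List ℕ) oneRows (fun g _ ih => mul (rows g) ih) l

theorem wordRows_spec : ∀ l : List ℕ, (∀ g ∈ l, g < 8) → okM (wordRows l) = true ∧
    val (wordRows l) = ((l.map unit).prod : GL45)
  | [], _ => ⟨ok_one, by rw [show wordRows [] = oneRows from rfl, val_one]; rfl⟩
  | g :: l, h => by
    have hg : g < 8 := h g List.mem_cons_self
    obtain ⟨h1, h2⟩ := wordRows_spec l fun x hx => h x (List.mem_cons_of_mem _ hx)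
    exact ⟨okM_mul (okM_rows (by omega)), by
      rw [show wordRows (g :: l) = mul (rows g) (wordRows l) from rfl,
        val_mul (okM_rows (by omega)) h1, h2, List.map_cons, List.prod_cons, Units.val_mul,
        val_unit hg]⟩

/-- Every relator word is a scalar of order dividing three. -/
theorem relators_ok : ON122760.letters.RL.all (fun l =>
    isScalar (wordRows l) 1 || isScalar (wordRows l) 2 || isScalar (wordRows l) 4) = true := by
  decide +kernel

theorem word_mem {l : List ℕ} (hl : l ∈ ON122760.letters.RL) : (l.map unit).prod ∈ Z := by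
  obtain ⟨-, hs⟩ := wordRows_spec l ((ON122760.letters_ok.2.2.2.1 l hl).1)
  have h := List.all_eq_true.1 relators_ok l hl
  simp only [Bool.or_eq_true] at h
  rcases h with (h | h) | h
  · refine ⟨((0 : ℕ) : ℤ), ?_⟩
    show zeta ^ ((0 : ℕ) : ℤ) = _
    rw [zpow_natCast]; refine Units.ext ?_
    rw [← hs, val_scalar h, val_zeta_pow]; simp
  · refine ⟨((1 : ℕ) : ℤ), ?_⟩
    show zeta ^ ((1 : ℕ) : ℤ) = _
    rw [zpow_natCast]; refine Units.ext ?_
    rw [← hs, val_scalar h, val_zeta_pow]; simp
  · refine ⟨((2 : ℕ) : ℤ), ?_⟩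
    show zeta ^ ((2 : ℕ) : ℤ) = _
    rw [zpow_natCast]; refine Units.ext ?_
    rw [← hs, val_scalar h, val_zeta_pow, show (2 : ZMod 7) ^ 2 = ((4 : ℕ) : ZMod 7) by decide]

/-- The homomorphism of the free group. -/
noncomputable def lifted : FreeGroup ON.Gen →* GL45 ⧸ Z :=
  FreeGroup.lift fun a => QuotientGroup.mk (unit (ON122760.letters.col a))

theorem lifted_mk {g : ℕ} (hg : g < 8) :
    lifted (FreeGroup.mk [ON122760.letters.sym g]) = QuotientGroup.mk (unit g) := by
  have hinv : ∀ h, h < 8 → invLetter h < 8 →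
      (QuotientGroup.mk (unit (invLetter h)) : GL45 ⧸ Z) = (QuotientGroup.mk (unit h))⁻¹ := by
    intro h hh hh'
    rw [← QuotientGroup.mk_inv]
    congr 1
    refine eq_inv_of_mul_eq_one_left (Units.ext ?_)
    rw [Units.val_mul, val_unit hh', val_unit hh, (pair_spec hh).2.2]; rfl
  have h1 : invLetter 0 = 1 := by decide +kernel
  have h2 := hinv 0 (by omega) (by rw [h1]; omega)
  rw [h1] at h2
  interval_cases g <;>
    simp [lifted, ON122760.letters, FreeGroup.lift_mk, h2]

theorem lifted_word : ∀ l : List ℕ, (∀ g ∈ l, g < 8) →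
    lifted (ON122760.letters.word l) = QuotientGroup.mk (l.map unit).prod
  | [], _ => by simp [Letters.word, ← FreeGroup.one_eq_mk]
  | g :: l, h => by
    rw [show ON122760.letters.word (g :: l) =
      FreeGroup.mk [ON122760.letters.sym g] * ON122760.letters.word l by simp [Letters.word],
      map_mul, lifted_mk (h g List.mem_cons_self),
      lifted_word l fun x hx => h x (List.mem_cons_of_mem _ hx), List.map_cons, List.prod_cons,
      QuotientGroup.mk_mul]

theorem lifted_rels : ∀ r ∈ coxRelators ON.edges ∪ {r | r ∈ ON.extra}, lifted r = 1 := by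
  refine lift_rels_of_list (nodes := [.a, .b, .c, .d, .e, .f]) (by decide) lifted fun r hr => ?_
  have hr' : r ∈ ON122760.letters.rels := hr
  obtain ⟨l, hl, hlr⟩ := ON122760.letters_ok.2.2.2.2 r hr'
  have hinv : ∀ g < ON122760.letters.K, invL ON122760.letters.IV g < ON122760.letters.K ∧
      lifted (FreeGroup.mk [ON122760.letters.sym (invL ON122760.letters.IV g)]) =
        (lifted (FreeGroup.mk [ON122760.letters.sym g]))⁻¹ := by
    intro g hg
    have hg' : g < 8 := hg
    refine ⟨(pair_spec hg').1, ?_⟩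
    rw [lifted_mk hg', show invL ON122760.letters.IV g = invLetter g from rfl,
      lifted_mk (pair_spec hg').1, ← QuotientGroup.mk_inv]
    congr 1
    refine eq_inv_of_mul_eq_one_left (Units.ext ?_)
    rw [Units.val_mul, val_unit (pair_spec hg').1, val_unit hg', (pair_spec hg').2.2]; rfl
  obtain ⟨hw, hlt⟩ := ON122760.letters.word_lettersOf lifted
    (fun a => by cases a <;> exact ⟨by decide +kernel, rfl⟩) hinv r
  rw [hlr] at hw hlt
  rw [← hw, lifted_word l hlt]
  exact (QuotientGroup.eq_one_iff _).2 (word_mem hl)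

/-- The homomorphism of the presented group. -/
noncomputable def toQuot : ON →* GL45 ⧸ Z := PresentedGroup.toGroup lifted_rels

theorem toQuot_of (a : ON.Gen) :
    toQuot (PresentedGroup.of a) = QuotientGroup.mk (unit (ON122760.letters.col a)) := by
  exact PresentedGroup.toGroup.of lifted_rels

end Cfsg.Agent.Lib.ON45
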