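import Cfsg.Agent.Lib.ON45.Main
import Cfsg.Agent.S1699

/-!
A triple cover of the O'Nan group inside the special linear group of dimension 45 over the field
with seven elements.
-/

set_option autoImplicit false

namespace Cfsg.Agent.Lib.ON45

open Cfsg.Spor

theorem simple_ON : IsSimpleGroup ON := Cfsg.Agent.S1699.result.1

theorem card_ON : Nat.card ON = 460815505920 := Cfsg.Agent.S1699.result.2

theorem unit_a_ne : (QuotientGroup.mk (unit 2) : GL45 ⧸ Z) ≠ 1 := by
  have hno : (!(isScalar (rows 2) 1 || isScalar (rows 2) 2 || isScalar (rows 2) 4)) = true := by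
    decide +kernel
  intro h
  obtain ⟨k, hk⟩ := (QuotientGroup.eq_one_iff _).1 h
  have hk' : zeta ^ k = unit 2 := hk
  rw [← zpow_mod_orderOf, orderOf_zeta] at hk'
  obtain ⟨m, hm⟩ := Int.eq_ofNat_of_zero_le (a := k % (3 : ℕ)) (Int.emod_nonneg _ (by norm_num))
  have hlt : m < 3 := by
    have := Int.emod_lt_of_pos k (show (0 : ℤ) < 3 by norm_num)
    omega
  rw [hm, zpow_natCast] at hk'
  have hv := congrArg Units.val hk'
  rw [val_zeta_pow, val_unit (by omega)] at hv
  have key : ∀ c : ℕ, c < 7 → val (rows 2) = (c : ZMod 7) • 1 → isScalar (rows 2) c = true := by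
    intro c hc hval
    simp only [isScalar, List.all_eq_true, List.mem_range, Nat.beq_eq]
    intro i hi j hj
    have he := congrArg ZMod.val (congrFun (congrFun hval ⟨i, hi⟩) ⟨j, hj⟩)
    simp only [val, Matrix.of_apply, Matrix.smul_apply, Matrix.one_apply, smul_eq_mul,
      ZMod.val_natCast] at he
    refine (show lane ((rows 2).getD i 0) j % 7 = _ from ?_)
    rw [he]
    by_cases hij : i = j
    · subst hij; simp [ZMod.val_natCast]; rfl
    · have : Nat.beq i j = false := by rw [Bool.eq_false_iff, Ne, Nat.beq_eq]; exact hij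
      simp [this, hij]
  interval_cases m
  · rw [key 1 (by norm_num) (by rw [← hv]; norm_num)] at hno; simp at hno
  · rw [key 2 (by norm_num) (by rw [← hv]; norm_num)] at hno; simp at hno
  · rw [key 4 (by norm_num) (by rw [← hv, show (2 : ZMod 7) ^ 2 = ((4 : ℕ) : ZMod 7) by decide])] at hno
    simp at hno

theorem toQuot_injective : Function.Injective toQuot := by
  haveI := simple_ON
  refine (MonoidHom.ker_eq_bot_iff _).1
    ((Subgroup.Normal.eq_bot_or_eq_top (MonoidHom.normal_ker toQuot)).resolve_right fun h => ?_)
  have hmem : PresentedGroup.of ON.Gen.a ∈ toQuot.ker := h ▸ Subgroup.mem_top _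
  rw [MonoidHom.mem_ker, toQuot_of] at hmem
  exact unit_a_ne hmem

/-- A simple group of the order of the O'Nan group has trivial centre. -/
theorem center_eq_bot : Subgroup.center ON = ⊥ := by
  haveI := simple_ON
  refine (Subgroup.Normal.eq_bot_or_eq_top (inferInstance : (Subgroup.center ON).Normal)).resolve_right
    fun h => ?_
  haveI : Finite ON := Nat.finite_of_card_ne_zero (by rw [card_ON]; norm_num)
  let _ : CommGroup ON := { (inferInstance : Group ON) with
    mul_comm := fun a b => (Subgroup.mem_center_iff.1 (h ▸ Subgroup.mem_top b) a) }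
  have hp := IsSimpleGroup.prime_card (α := ON)
  rw [card_ON] at hp
  exact Nat.not_prime_mul (a := 2) (b := 230407752960) (by norm_num) (by norm_num) (by simpa using hp)

theorem coe_detMap (x : GL45) :
    ((Units.map (Matrix.detMonoidHom (R := ZMod 7) (n := Fin 45)) x : (ZMod 7)ˣ) : ZMod 7) =
      Matrix.det (x : Matrix (Fin 45) (Fin 45) (ZMod 7)) := by
  rw [Units.coe_map, Matrix.coe_detMonoidHom]

theorem det_zeta : Matrix.det (zeta : Matrix (Fin 45) (Fin 45) (ZMod 7)) = 1 := by
  rw [show (zeta : Matrix (Fin 45) (Fin 45) (ZMod 7)) = (2 : ZMod 7) • 1 from rfl,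
    Matrix.det_smul, Matrix.det_one, mul_one, Fintype.card_fin]
  decide +kernel

/-- The determinant, modulo the scalars. -/
noncomputable def detQuot : GL45 ⧸ Z →* (ZMod 7)ˣ :=
  QuotientGroup.lift Z (Units.map (Matrix.detMonoidHom (R := ZMod 7) (n := Fin 45))) (by
    rw [Subgroup.zpowers_le, MonoidHom.mem_ker]
    refine Units.ext ?_
    rw [coe_detMap, det_zeta, Units.val_one])

theorem det_toQuot (x : ON) : detQuot (toQuot x) = 1 := by
  haveI := simple_ON
  rcases Subgroup.Normal.eq_bot_or_eq_top (MonoidHom.normal_ker (detQuot.comp toQuot)) with h | h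
  · exfalso
    have hinj := (MonoidHom.ker_eq_bot_iff _).1 h
    have hc : Subgroup.center ON = ⊤ := eq_top_iff.2 fun a _ => Subgroup.mem_center_iff.2 fun b =>
      hinj (by rw [map_mul, map_mul, mul_comm])
    rw [center_eq_bot] at hc
    exact bot_ne_top hc
  · exact MonoidHom.mem_ker.1 (h ▸ Subgroup.mem_top x : x ∈ (detQuot.comp toQuot).ker)

/-- The cover inside the invertible matrices. -/
noncomputable def cover : Subgroup GL45 := toQuot.range.comap (QuotientGroup.mk' Z)

theorem det_cover {x : GL45} (hx : x ∈ cover) :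
    Matrix.det (x : Matrix (Fin 45) (Fin 45) (ZMod 7)) = 1 := by
  obtain ⟨y, hy⟩ := hx
  have := det_toQuot y
  rw [hy] at this
  rw [detQuot, QuotientGroup.mk'_apply, QuotientGroup.lift_mk] at this
  rw [← coe_detMap, this, Units.val_one]

/-- The cover in the special linear group. -/
noncomputable def toSL : cover →* Matrix.SpecialLinearGroup (Fin 45) (ZMod 7) where
  toFun x := ⟨((x : GL45) : Matrix (Fin 45) (Fin 45) (ZMod 7)), det_cover x.2⟩
  map_one' := Subtype.ext rfl
  map_mul' _ _ := Subtype.ext rfl

theorem toSL_injective : Function.Injective toSL := fun x y h =>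
  Subtype.ext (Units.ext (congrArg Subtype.val h))

/-- The projection to the presented group. -/
noncomputable def proj : cover →* ON :=
  (MonoidHom.ofInjective toQuot_injective).symm.toMonoidHom.comp
    (((QuotientGroup.mk' Z).comp cover.subtype).codRestrict toQuot.range fun x => x.2)

theorem toQuot_proj (x : cover) : toQuot (proj x) = QuotientGroup.mk (x : GL45) := by
  have h := (MonoidHom.ofInjective toQuot_injective).apply_symm_apply
    ((((QuotientGroup.mk' Z).comp cover.subtype).codRestrict toQuot.range fun x => x.2) x)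
  exact congrArg Subtype.val h

theorem proj_surjective : Function.Surjective proj := by
  intro y
  obtain ⟨x, hx⟩ := QuotientGroup.mk'_surjective Z (toQuot y)
  exact ⟨⟨x, y, hx.symm⟩, toQuot_injective (by rw [toQuot_proj]; exact hx)⟩

theorem ker_proj : proj.ker = Z.subgroupOf cover := by
  ext x
  rw [MonoidHom.mem_ker, ← toQuot_injective.eq_iff, map_one, toQuot_proj, QuotientGroup.eq_one_iff]
  rfl

theorem center_cover : Subgroup.center cover = proj.ker := by
  refine le_antisymm (fun x hx => ?_) fun x hx => ?_
  · have hc : proj x ∈ Subgroup.center ON := by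
      rw [Subgroup.mem_center_iff]
      intro y
      obtain ⟨w, rfl⟩ := proj_surjective y
      rw [← map_mul, ← map_mul, Subgroup.mem_center_iff.1 hx w]
    rwa [center_eq_bot, Subgroup.mem_bot] at hc
  · rw [ker_proj] at hx
    rw [Subgroup.mem_center_iff]
    exact fun w => Subtype.ext (Subgroup.mem_center_iff.1 (Z_le_center hx) _)

theorem card_center_cover : Nat.card (Subgroup.center cover) = 3 := by
  rw [center_cover, ker_proj,
    Nat.card_congr (Subgroup.subgroupOfEquivOfLe (fun z hz => ⟨1, by
      rw [map_one]; exact ((QuotientGroup.eq_one_iff z).2 hz).symm⟩ : Z ≤ cover)).toEquiv, card_Z]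

/-- An embedded group with centre `ker p` gives such a subgroup. -/
theorem realize_of_embedding {C S Q : Type*} [Group C] [Group S] [Group Q] (f : C →* S)
    (hf : Function.Injective f) (p : C →* Q) (hp : Function.Surjective p)
    (hc : Subgroup.center C = p.ker) (hcard : Nat.card (Subgroup.center C) = 3)
    (hs : IsSimpleGroup Q) (hn : Nat.card Q = 460815505920) :
    ∃ H : Subgroup S, Nat.card (Subgroup.center H) = 3 ∧ Cfsg.IsON (H ⧸ Subgroup.center H) := by
  let e := MonoidHom.ofInjective hf
  refine ⟨f.range, ?_, ?_⟩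
  · rw [← hcard]
    exact Nat.card_congr (Subgroup.centerCongr e.symm).toEquiv
  · have hm : (Subgroup.center C).map e.toMonoidHom = Subgroup.center f.range := by
      ext y
      constructor
      · rintro ⟨x, hx, rfl⟩
        exact (Subgroup.centerCongr e ⟨x, hx⟩).2
      · intro hy
        exact ⟨e.symm y, (Subgroup.centerCongr e.symm ⟨y, hy⟩).2, e.apply_symm_apply y⟩
    let q : f.range ⧸ Subgroup.center f.range ≃* Q :=
      ((QuotientGroup.congr _ _ e hm).symm.trans (QuotientGroup.quotientMulEquivOfEq hc)).trans
        (QuotientGroup.quotientKerEquivOfSurjective p hp)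
    haveI : Nontrivial (f.range ⧸ Subgroup.center f.range) :=
      q.toEquiv.nontrivial_congr.2 hs.toNontrivial
    exact ⟨IsSimpleGroup.isSimpleGroup_of_surjective (hf := q.symm.surjective) q.symm.toMonoidHom,
      (Nat.card_congr q.toEquiv).trans hn⟩

/-- The triple cover of the O'Nan group in dimension 45. -/
theorem realization : ∃ H : Subgroup (Matrix.SpecialLinearGroup (Fin 45) (ZMod 7)),
    Nat.card (Subgroup.center H) = 3 ∧ Cfsg.IsON (H ⧸ Subgroup.center H) :=
  realize_of_embedding toSL toSL_injective proj proj_surjective center_cover card_center_cover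
    simple_ON card_ON

end Cfsg.Agent.Lib.ON45
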